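import Groth.Agent.L10.KInjRes.Resolution
import Mathlib.Algebra.Homology.DerivedCategory.ShortExact
import Mathlib.CategoryTheory.Adjunction.PartialAdjoint
import Mathlib.CategoryTheory.Triangulated.Yoneda

/-!
# Bousfield localization of the derived category of a Grothendieck abelian category at a set of objects

The right orthogonal of a small set of objects is a reflective subcategory.
-/

set_option autoImplicit false
set_option backward.defeqAttrib.useBackward true
set_option backward.isDefEq.respectTransparency false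

universe w v u

open CategoryTheory CategoryTheory.Limits CategoryTheory.Pretriangulated CochainComplex CochainComplex.HomComplex ZeroObject

namespace Groth.L04.Bousfield

open Groth.L10.KInjRes

variable {A : Type u} [Category.{v} A] [Abelian A]

section Lift

/-- A null homotopy extends along a monomorphism to injective terms. -/
theorem exists_extension_of_null {X Y I : CochainComplex A ℤ} (f : X ⟶ Y) [Mono f]
    (hI : ∀ n, Injective (I.X n)) (u : X ⟶ I) (h : Nonempty (Homotopy u 0)) :
    ∃ l : Y ⟶ I, f ≫ l = u ∧ Nonempty (Homotopy l 0) := by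
  obtain ⟨α, hα⟩ := (Groth.L10.nullHomotopic_iff u).1 h
  have : ∀ n, Mono (f.f n) := fun n => (HomologicalComplex.eval A (ComplexShape.up ℤ) n).map_mono f
  let β : Cochain Y I (-1) := Cochain.mk fun p q hpq => Injective.factorThru (α.v p q hpq) (f.f p)
  have hβ : (Cochain.ofHom f).comp β (zero_add (-1)) = α := by
    ext p q hpq
    simp [β]
  let l : Y ⟶ I := Cocycle.homOf (Cocycle.mk (δ (-1) 0 β) 1 (by omega) (δ_δ _ _ _ _))
  refine ⟨l, ?_, (Groth.L10.nullHomotopic_iff l).2 ⟨β, ?_⟩⟩
  · apply Cochain.ofHom_injective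
    rw [Cochain.ofHom_comp, Cocycle.cochain_ofHom_homOf_eq_coe, Cocycle.mk_coe, ← δ_ofHom_comp, hβ, hα]
  · rw [Cocycle.cochain_ofHom_homOf_eq_coe, Cocycle.mk_coe]

/-- A degreewise section of the projection of the cone of the identity. -/
noncomputable def coneσ (I : CochainComplex A ℤ) : Cochain (I⟦(1 : ℤ)⟧) (mappingCone (𝟙 I)) 0 :=
  Cochain.ofHoms fun p => -((I.shiftFunctorObjXIso 1 p (p + 1) rfl).hom ≫
    (mappingCone.inl (𝟙 I)).v (p + 1) p (by omega))

theorem coneσ_π (I : CochainComplex A ℤ) :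
    (coneσ I).comp (Cochain.ofHom (mappingCone.triangle (𝟙 I)).mor₃) (add_zero 0) = Cochain.ofHom (𝟙 (I⟦(1 : ℤ)⟧)) := by
  ext p
  simp only [Cochain.zero_cochain_comp_v, Cochain.ofHom_v, coneσ, Cochain.ofHoms_v, Preadditive.neg_comp,
    Category.assoc, mappingCone.inl_v_triangle_mor₃_f, Preadditive.comp_neg, neg_neg, HomologicalComplex.id_f]
  exact Iso.hom_inv_id _

/-- A null homotopic map to a shift lifts to the cone of the identity. -/
theorem exists_lift_of_null {Z I : CochainComplex A ℤ} (g : Z ⟶ I⟦(1 : ℤ)⟧) (h : Nonempty (Homotopy g 0)) :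
    ∃ l : Z ⟶ mappingCone (𝟙 I), l ≫ (mappingCone.triangle (𝟙 I)).mor₃ = g := by
  obtain ⟨α, hα⟩ := (Groth.L10.nullHomotopic_iff g).1 h
  let β : Cochain Z (mappingCone (𝟙 I)) (-1) := α.comp (coneσ I) (add_zero (-1))
  refine ⟨Cocycle.homOf (Cocycle.mk (δ (-1) 0 β) 1 (by omega) (δ_δ _ _ _ _)), ?_⟩
  apply Cochain.ofHom_injective
  rw [Cochain.ofHom_comp, Cocycle.cochain_ofHom_homOf_eq_coe, Cocycle.mk_coe, ← δ_comp_ofHom, ← hα]
  congr 1
  simp only [β]
  rw [Cochain.comp_assoc_of_third_is_zero_cochain, coneσ_π, Cochain.comp_id]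

theorem injective_cone_id (I : CochainComplex A ℤ) (hI : ∀ n, Injective (I.X n)) (n : ℤ) :
    Injective ((mappingCone (𝟙 I)).X n) := by
  haveI := hI
  exact Injective.of_iso (HomologicalComplex.homotopyCofiber.XIsoBiprod (𝟙 I) n (n + 1) rfl).symm inferInstance

end Lift

variable [HasDerivedCategory.{w} A]

/-- A map to a K-injective complex which is zero in the derived category is null homotopic. -/
theorem null_of_Q_map_eq_zero {X I : CochainComplex A ℤ} [I.IsKInjective] (u : X ⟶ I)
    (h : DerivedCategory.Q.map u = 0) : Nonempty (Homotopy u 0) := by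
  refine ⟨HomotopyCategory.homotopyOfEq _ _ ((CochainComplex.IsKInjective.Qh_map_bijective _ I).injective ?_)⟩
  rw [← cancel_epi ((DerivedCategory.quotientCompQhIso A).inv.app X)]
  have h1 := (DerivedCategory.quotientCompQhIso A).inv.naturality u
  rw [h, zero_comp] at h1
  refine h1.symm.trans ?_
  simp

theorem exists_Q_map {X I : CochainComplex A ℤ} [I.IsKInjective]
    (y : DerivedCategory.Q.obj X ⟶ DerivedCategory.Q.obj I) : ∃ u : X ⟶ I, DerivedCategory.Q.map u = y := by
  obtain ⟨x, hx⟩ := (CochainComplex.IsKInjective.Qh_map_bijective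
    ((HomotopyCategory.quotient _ _).obj X) I).surjective
    ((DerivedCategory.quotientCompQhIso A).hom.app X ≫ y ≫ (DerivedCategory.quotientCompQhIso A).inv.app I)
  obtain ⟨u, rfl⟩ := (HomotopyCategory.quotient _ _).map_surjective x
  refine ⟨u, ?_⟩
  rw [← cancel_epi ((DerivedCategory.quotientCompQhIso A).hom.app X)]
  have h1 := (DerivedCategory.quotientCompQhIso A).hom.naturality u
  refine h1.symm.trans ?_
  refine (congrArg (· ≫ _) hx).trans ?_
  simp

theorem isZero_Q_obj (K : CochainComplex A ℤ) (h : K.Acyclic) : IsZero (DerivedCategory.Q.obj K) := by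
  haveI : QuasiIso (0 : K ⟶ (0 : CochainComplex A ℤ)) :=
    ⟨fun i => (quasiIsoAt_iff_exactAt _ _ (h i)).2 (ShortComplex.exact_of_isZero_X₂ _
      ((HomologicalComplex.eval A (ComplexShape.up ℤ) i).map_isZero (isZero_zero _)))⟩
  exact (DerivedCategory.Q.map_isZero (isZero_zero _)).of_iso (asIso (DerivedCategory.Q.map (0 : K ⟶ (0 : CochainComplex A ℤ))))

variable {κ : Type v} (P : κ → CochainComplex A ℤ)

/-- Objects right orthogonal to all shifts of the given ones. -/
def Loc : ObjectProperty (DerivedCategory A) := fun T =>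
  ∀ (k : κ) (n : ℤ), Subsingleton (DerivedCategory.Q.obj (P k) ⟶ T⟦n⟧)

theorem loc_shift {T : DerivedCategory A} (h : Loc P T) (m : ℤ) : Loc P (T⟦m⟧) := fun k n => by
  haveI := h k (m + n)
  exact @Equiv.subsingleton _ _ (((CategoryTheory.shiftFunctorAdd (DerivedCategory A) m n).app T).symm.homToEquiv) (h k (m + n))

theorem loc_of_iso {T T' : DerivedCategory A} (e : T ≅ T') (h : Loc P T) : Loc P T' := fun k n => by
  haveI := h k n
  exact ((CategoryTheory.shiftFunctor (DerivedCategory A) n).mapIso e).homToEquiv.symm.subsingleton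

variable [IsGrothendieckAbelian.{v} A]

/-- The cones on the given complexes. -/
noncomputable abbrev genP : MorphismProperty (CochainComplex A ℤ) :=
  MorphismProperty.ofHoms (fun k => mappingCone.inr (𝟙 (P k)))

/-- All generators. -/
noncomputable abbrev W : MorphismProperty (CochainComplex A ℤ) := gens' A ⊔ genP P

theorem W_spec {X Y : CochainComplex A ℤ} {f : X ⟶ Y} (h : W P f) :
    Mono f ∧ Y.Acyclic ∧ (X.Acyclic ∨ ∃ k, X = P k) := by
  rcases h with h | h
  · obtain ⟨h1, h2, h3⟩ := gens'_acyclic h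
    exact ⟨h1, h3, Or.inl h2⟩
  · obtain ⟨k⟩ := h
    exact ⟨mono_inr _, Groth.L10.acyclic_mappingCone_id _, Or.inr ⟨k, rfl⟩⟩

theorem W_le_monomorphisms : W P ≤ MorphismProperty.monomorphisms _ := fun _ _ _ h => (W_spec P h).1

instance isSmall_W : MorphismProperty.IsSmall.{v} (W P) := by
  have : MorphismProperty.IsSmall.{v} (genP P) := inferInstance
  have : MorphismProperty.IsSmall.{v} (gens' A) := inferInstance
  let F : ULift.{v} Bool → MorphismProperty (CochainComplex A ℤ) := fun b => cond b.down (gens' A) (genP P)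
  have : ∀ b, MorphismProperty.IsSmall.{v} (F b) := by rintro ⟨_ | _⟩ <;> assumption
  have h : W P = ⨆ b, F b := le_antisymm (sup_le (le_iSup F ⟨true⟩) (le_iSup F ⟨false⟩))
    (iSup_le (by rintro ⟨_ | _⟩; exacts [le_sup_right, le_sup_left]))
  rw [h]; infer_instance

theorem hasSmallObjectArgument_W : MorphismProperty.HasSmallObjectArgument.{v} (W P) := by
  let src : (SmallAc A ⊕ (ℤ × Subobject (gen A))) ⊕ κ → CochainComplex A ℤ :=
    Sum.elim (Sum.elim (fun R => cokernel R.1.arrow) (fun p => disk p.1 (p.2 : A))) P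
  obtain ⟨c, hc', hc⟩ := HasCardinalLT.exists_regular_cardinal.{v} (Σ i, Subobject (src i))
  have : Fact c.IsRegular := ⟨hc'⟩
  have : Nonempty c.ord.ToType := by simpa using hc'.ne_zero
  have := WellFoundedLT.toOrderBot c.ord.ToType
  exact ⟨c, inferInstance, inferInstance,
    { preservesColimit {S T X Y} i hi f hf := by
        let hf' : (MorphismProperty.monomorphisms (CochainComplex A ℤ)).TransfiniteCompositionOfShape c.ord.ToType f :=
          { toTransfiniteCompositionOfShape := hf.toTransfiniteCompositionOfShape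
            map_mem j hj := by
              have := (hf.attachCells j hj).pushouts_coproducts
              simp only [MorphismProperty.ofHoms_homFamily] at this
              refine (?_ : _ ≤ MorphismProperty.monomorphisms _) _ this
              simp only [MorphismProperty.pushouts_le_iff, MorphismProperty.coproducts_le_iff]
              exact W_le_monomorphisms P }
        have (j j' : c.ord.ToType) (φ : j ⟶ j') : Mono (hf'.F.map φ) := hf'.mem_map φ
        apply IsGrothendieckAbelian.preservesColimit_coyoneda_obj_of_mono (Y := hf'.F) (κ := c)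
        rcases hi with (h | h) | h
        · obtain ⟨R⟩ := h
          exact hc.of_injective (fun s => (⟨Sum.inl (Sum.inl R), s⟩ : Σ i, Subobject (src i)))
            (fun a b h => eq_of_heq (Sigma.mk.inj_iff.1 h).2)
        · obtain ⟨p⟩ := h
          exact hc.of_injective (fun s => (⟨Sum.inl (Sum.inr p), s⟩ : Σ i, Subobject (src i)))
            (fun a b h => eq_of_heq (Sigma.mk.inj_iff.1 h).2)
        · obtain ⟨k⟩ := h
          exact hc.of_injective (fun s => (⟨Sum.inr k, s⟩ : Σ i, Subobject (src i)))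
            (fun a b h => eq_of_heq (Sigma.mk.inj_iff.1 h).2) }⟩

variable {P}

theorem subsingleton_hom_source {X Y : CochainComplex A ℤ} {f : X ⟶ Y} (hf : W P f) {T : DerivedCategory A}
    (hT : Loc P T) (n : ℤ) : Subsingleton (DerivedCategory.Q.obj X ⟶ T⟦n⟧) := by
  rcases (W_spec P hf).2.2 with h | ⟨k, rfl⟩
  · exact ⟨fun a b => (isZero_Q_obj X h).eq_of_src a b⟩
  · exact hT k n

/-- An object with injective terms which is local lifts against the generators. -/
theorem exists_extension {X Y : CochainComplex A ℤ} {f : X ⟶ Y} (hf : W P f) {I : CochainComplex A ℤ}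
    [I.IsKInjective] (hI : ∀ n, Injective (I.X n)) (hloc : Loc P (DerivedCategory.Q.obj I)) (u : X ⟶ I) :
    ∃ l : Y ⟶ I, f ≫ l = u := by
  haveI := (W_spec P hf).1
  haveI := subsingleton_hom_source hf hloc 0
  haveI := ((shiftFunctorZero (DerivedCategory A) ℤ).app (DerivedCategory.Q.obj I)).homToEquiv.symm.subsingleton
    (α := DerivedCategory.Q.obj X ⟶ DerivedCategory.Q.obj I)
  obtain ⟨l, hl, -⟩ := exists_extension_of_null f hI u (null_of_Q_map_eq_zero u (Subsingleton.elim _ _))
  exact ⟨l, hl⟩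

/-- The projection from the cone of the identity lifts against the generators. -/
theorem rlp_coneπ (I : CochainComplex A ℤ) [I.IsKInjective] (hI : ∀ n, Injective (I.X n))
    (hloc : Loc P (DerivedCategory.Q.obj I)) : (W P).rlp (mappingCone.triangle (𝟙 I)).mor₃ := by
  intro X Y f hf
  haveI := (W_spec P hf).1
  refine ⟨fun {a b} sq => ?_⟩
  let π : mappingCone (𝟙 I) ⟶ I⟦(1 : ℤ)⟧ := (mappingCone.triangle (𝟙 I)).mor₃
  let b' : Y ⟶ I⟦(1 : ℤ)⟧ := b
  have hsq : a ≫ π = f ≫ b' := sq.w
  obtain ⟨l₀, hl₀, -⟩ := exists_extension_of_null f (injective_cone_id I hI) a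
    ⟨(Homotopy.ofEq (Category.comp_id a).symm).trans
      (((mappingCone.homotopyToZeroOfId I).compLeft a).trans (Homotopy.ofEq comp_zero))⟩
  let e := b' - l₀ ≫ π
  have he : f ≫ e = 0 := by
    simp only [e, Preadditive.comp_sub, ← Category.assoc, hl₀, hsq, sub_self]
  let S := ShortComplex.mk f (cokernel.π f) (cokernel.condition f)
  have hS : S.ShortExact := { exact := ShortComplex.exact_cokernel f }
  let e' := cokernel.desc f e he
  haveI : Subsingleton (DerivedCategory.Q.obj S.X₃ ⟶ DerivedCategory.Q.obj (I⟦(1 : ℤ)⟧)) := by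
    haveI : IsIso (DerivedCategory.triangleOfSES hS).mor₃ :=
      (Triangle.isZero₂_iff_isIso₃ _ (DerivedCategory.triangleOfSES_distinguished hS)).1
        (isZero_Q_obj Y (W_spec P hf).2.1)
    haveI : Subsingleton ((DerivedCategory.Q.obj X)⟦(1 : ℤ)⟧ ⟶ (DerivedCategory.Q.obj I)⟦(1 : ℤ)⟧) := by
      haveI := subsingleton_hom_source hf hloc 0
      haveI := ((shiftFunctorZero (DerivedCategory A) ℤ).app (DerivedCategory.Q.obj I)).homToEquiv.symm.subsingleton
        (α := DerivedCategory.Q.obj X ⟶ DerivedCategory.Q.obj I)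
      exact (Functor.FullyFaithful.ofFullyFaithful
        (CategoryTheory.shiftFunctor (DerivedCategory A) (1 : ℤ))).homEquiv.symm.subsingleton
    exact @Equiv.subsingleton _ _ ((asIso (DerivedCategory.triangleOfSES hS).mor₃).homCongr
      ((DerivedCategory.Q.commShiftIso (1 : ℤ)).app I)) ‹_›
  obtain ⟨k, hk⟩ := exists_lift_of_null e' (null_of_Q_map_eq_zero e' (Subsingleton.elim _ _))
  refine ⟨⟨{ l := l₀ + cokernel.π f ≫ k, fac_left := ?_, fac_right := ?_ }⟩⟩
  · rw [Preadditive.comp_add, hl₀, cokernel.condition_assoc, zero_comp, add_zero]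
  · change (l₀ + cokernel.π f ≫ k) ≫ π = b'
    rw [Preadditive.add_comp, Category.assoc, show k ≫ π = e' from hk, cokernel.π_desc, add_sub_cancel]

theorem rlp_zero {I : CochainComplex A ℤ} [I.IsKInjective] (hI : ∀ n, Injective (I.X n))
    (hloc : Loc P (DerivedCategory.Q.obj I)) : (W P).rlp (0 : I ⟶ (0 : CochainComplex A ℤ)) := by
  intro X Y f hf
  refine ⟨fun {a b} sq => ?_⟩
  obtain ⟨l, hl⟩ := exists_extension hf hI hloc a
  exact ⟨⟨{ l := l, fac_left := hl, fac_right := (isZero_zero _).eq_of_tgt _ _ }⟩⟩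

theorem mono_of_llp_rlp {M L : CochainComplex A ℤ} {i : M ⟶ L} (hi : (W P).rlp.llp i) : Mono i := by
  refine HomologicalComplex.mono_of_mono_f _ fun n => ?_
  obtain ⟨m, rfl⟩ : ∃ m, n = m + 1 := ⟨n - 1, by omega⟩
  let E := Injective.under (M.X (m + 1))
  have := hi (0 : disk m E ⟶ (0 : CochainComplex A ℤ)) (fun X Y g hg => ⟨fun {a b} sq => by
    haveI := (W_spec P hg).1
    exact ⟨⟨{ l := toDisk (Injective.factorThru (a.f (m + 1) ≫ (D₁ m E).hom) (g.f (m + 1))),
              fac_left := toDisk_ext (by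
                rw [← cancel_mono (D₁ m E).hom, HomologicalComplex.comp_f, Category.assoc, toDisk_f_succ,
                  Injective.comp_factorThru]),
              fac_right := (isZero_zero _).eq_of_tgt _ _ }⟩⟩⟩)
  have sq : CommSq (toDisk (Injective.ι (M.X (m + 1)))) i (0 : disk m E ⟶ (0 : CochainComplex A ℤ)) 0 :=
    ⟨(isZero_zero _).eq_of_tgt _ _⟩
  have h := congrArg (fun φ => φ.f (m + 1) ≫ (D₁ m E).hom) sq.fac_left
  simp only [HomologicalComplex.comp_f, Category.assoc, toDisk_f_succ] at h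
  exact mono_of_mono_fac h

theorem exists_model (T : DerivedCategory A) :
    ∃ (I : CochainComplex A ℤ) (_ : I.IsKInjective), (∀ n, Injective (I.X n)) ∧ Nonempty (DerivedCategory.Q.obj I ≅ T) := by
  refine ⟨res (DerivedCategory.Q.objPreimage T), inferInstance, fun n => inferInstance, ⟨?_⟩⟩
  exact (asIso (DerivedCategory.Q.map (resι (DerivedCategory.Q.objPreimage T)))).symm ≪≫
    DerivedCategory.Q.objObjPreimageIso T

variable (P)

/-- The reflection of an object. -/
theorem exists_reflection (hP : ∀ (k : κ) (n : ℤ), ∃ k', Nonempty (DerivedCategory.Q.obj (P k') ≅ (DerivedCategory.Q.obj (P k))⟦n⟧))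
    (K : DerivedCategory A) :
    ∃ (L : DerivedCategory A) (η : K ⟶ L), Loc P L ∧
      ∀ T, Loc P T → Function.Bijective (fun g : L ⟶ T => η ≫ g) := by
  haveI := hasSmallObjectArgument_W P
  let M := DerivedCategory.Q.objPreimage K
  let F := MorphismProperty.factorizationData (W P).rlp.llp (W P).rlp (0 : M ⟶ (0 : CochainComplex A ℤ))
  have hfib : ∀ ⦃X Y : CochainComplex A ℤ⦄ (f : X ⟶ Y), W P f → ∀ u : X ⟶ F.Z, ∃ l : Y ⟶ F.Z, f ≫ l = u := by
    intro X Y g hg u
    have := F.hp g hg
    have sq : CommSq u g F.p 0 := ⟨(isZero_zero _).eq_of_tgt _ _⟩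
    exact ⟨sq.lift, sq.fac_left⟩
  have hF : Fibrant F.Z := fun X Y g hg u => hfib g (Or.inl hg) u
  haveI := hF.isKInjective
  have h0 : ∀ (Z : CochainComplex A ℤ) [Z.IsKInjective],
      (∀ k (u : P k ⟶ Z), Nonempty (Homotopy u 0)) → ∀ k, Subsingleton (DerivedCategory.Q.obj (P k) ⟶ DerivedCategory.Q.obj Z) := by
    intro Z _ h k
    refine subsingleton_of_forall_eq 0 fun y => ?_
    obtain ⟨u, rfl⟩ := exists_Q_map y
    obtain ⟨H⟩ := h k u
    rw [← cancel_epi ((DerivedCategory.quotientCompQhIso A).hom.app (P k))]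
    refine ((DerivedCategory.quotientCompQhIso A).hom.naturality u).symm.trans ?_
    rw [Functor.comp_map, HomotopyCategory.eq_of_homotopy u 0 H]
    simp
  refine ⟨DerivedCategory.Q.obj F.Z, (DerivedCategory.Q.objObjPreimageIso K).inv ≫ DerivedCategory.Q.map F.i,
    ?_, fun T hT => ?_⟩
  · intro k n
    obtain ⟨k', ⟨e⟩⟩ := hP k (-n)
    haveI : Subsingleton (DerivedCategory.Q.obj (P k') ⟶ DerivedCategory.Q.obj F.Z) := by
      refine h0 F.Z (fun j u => ?_) k'
      obtain ⟨l, hl⟩ := hfib (mappingCone.inr (𝟙 (P j))) (Or.inr (MorphismProperty.ofHoms.mk j)) u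
      exact ⟨(Homotopy.ofEq (by rw [← hl, Category.comp_id])).trans
        ((((mappingCone.homotopyToZeroOfId (P j)).compLeft (mappingCone.inr (𝟙 (P j)))).compRight l).trans
          (Homotopy.ofEq (by rw [comp_zero, zero_comp])))⟩
    exact ((shiftEquiv (DerivedCategory A) n).symm.toAdjunction.homEquiv _ _).symm.trans
      (e.symm.homFromEquiv) |>.subsingleton
  · suffices hb : Function.Bijective (fun g : DerivedCategory.Q.obj F.Z ⟶ T => DerivedCategory.Q.map F.i ≫ g) by
      refine Function.Bijective.comp (f := fun g : DerivedCategory.Q.obj F.Z ⟶ T => DerivedCategory.Q.map F.i ≫ g)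
        (g := fun g => (DerivedCategory.Q.objObjPreimageIso K).inv ≫ g) ?_ hb |> fun h => by
          simpa [Function.comp_def] using h
      exact ⟨fun x y h => (cancel_epi _).1 h, fun y => ⟨(DerivedCategory.Q.objObjPreimageIso K).hom ≫ y, Iso.inv_hom_id_assoc _ _⟩⟩
    obtain ⟨I, _, hI, ⟨e⟩⟩ := exists_model (T⟦(-1 : ℤ)⟧)
    have hlI : Loc P (DerivedCategory.Q.obj I) := loc_of_iso P e.symm (loc_shift P hT (-1))
    let J := I⟦(1 : ℤ)⟧
    let eT : DerivedCategory.Q.obj J ≅ T := (DerivedCategory.Q.commShiftIso (1 : ℤ)).app I ≪≫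
      (CategoryTheory.shiftFunctor (DerivedCategory A) (1 : ℤ)).mapIso e ≪≫ shiftNegShift T (1 : ℤ)
    have hlJ : Loc P (DerivedCategory.Q.obj J) := loc_of_iso P eT.symm hT
    have hJ : ∀ n, Injective (J.X n) := fun n => hI (n + 1)
    refine ⟨fun g g' hgg => ?_, fun y => ?_⟩
    · obtain ⟨u, hu⟩ := exists_Q_map (I := J) ((g - g') ≫ eT.inv)
      obtain ⟨l, hl⟩ : ∃ l : F.Z ⟶ mappingCone (𝟙 I), l ≫ (mappingCone.triangle (𝟙 I)).mor₃ = u := by
        haveI := mono_of_llp_rlp F.hi
        have hnull : Nonempty (Homotopy (F.i ≫ u) 0) := null_of_Q_map_eq_zero _ (by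
          rw [Functor.map_comp, hu, Preadditive.sub_comp, Preadditive.comp_sub,
            ← Category.assoc, ← Category.assoc,
            show DerivedCategory.Q.map F.i ≫ g = DerivedCategory.Q.map F.i ≫ g' from hgg, sub_self])
        obtain ⟨w₁, hw₁, ⟨Hw⟩⟩ := exists_extension_of_null F.i hJ _ hnull
        have := F.hi (mappingCone.triangle (𝟙 I)).mor₃ (rlp_coneπ I hI hlI)
        have sq : CommSq (0 : M ⟶ mappingCone (𝟙 I)) F.i (mappingCone.triangle (𝟙 I)).mor₃ (u - w₁) :=
          ⟨by rw [zero_comp, Preadditive.comp_sub, hw₁, sub_self]⟩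
        obtain ⟨k, hk⟩ := exists_lift_of_null w₁ ⟨Hw⟩
        exact ⟨sq.lift + k, by rw [Preadditive.add_comp, sq.fac_right, hk, sub_add_cancel]⟩
      rw [← sub_eq_zero, ← cancel_mono eT.inv, zero_comp, ← hu, ← hl, Functor.map_comp,
        (isZero_Q_obj _ (Groth.L10.acyclic_mappingCone_id I)).eq_of_tgt
          (DerivedCategory.Q.map l) 0, zero_comp]
    · obtain ⟨u, hu⟩ := exists_Q_map (I := J) (y ≫ eT.inv)
      have := F.hi (0 : J ⟶ (0 : CochainComplex A ℤ)) (rlp_zero hJ hlJ)
      have sq : CommSq u F.i (0 : J ⟶ (0 : CochainComplex A ℤ)) 0 := ⟨(isZero_zero _).eq_of_tgt _ _⟩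
      refine ⟨DerivedCategory.Q.map sq.lift ≫ eT.hom, ?_⟩
      change DerivedCategory.Q.map F.i ≫ DerivedCategory.Q.map sq.lift ≫ eT.hom = y
      rw [← Category.assoc, ← Functor.map_comp, sq.fac_left, hu, Category.assoc, eT.inv_hom_id, Category.comp_id]

/-- The objects right orthogonal to all shifts of a small family of objects form a reflective subcategory. -/
theorem isRightAdjoint_ι {κ : Type v} (S : κ → DerivedCategory A) :
    (ObjectProperty.ι (fun K : DerivedCategory A => ∀ (k : κ) (n : ℤ), Subsingleton (S k ⟶ K⟦n⟧))).IsRightAdjoint := by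
  let R : ObjectProperty (DerivedCategory A) := fun K => ∀ (k : κ) (n : ℤ), Subsingleton (S k ⟶ K⟦n⟧)
  change (ObjectProperty.ι R).IsRightAdjoint
  let P : κ × ULift.{v} ℤ → CochainComplex A ℤ := fun p => DerivedCategory.Q.objPreimage ((S p.1)⟦p.2.down⟧)
  let eP : ∀ p, DerivedCategory.Q.obj (P p) ≅ (S p.1)⟦p.2.down⟧ := fun p => DerivedCategory.Q.objObjPreimageIso _
  have hP : ∀ (p : κ × ULift.{v} ℤ) (n : ℤ), ∃ p', Nonempty (DerivedCategory.Q.obj (P p') ≅ (DerivedCategory.Q.obj (P p))⟦n⟧) :=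
    fun p n => ⟨(p.1, ⟨p.2.down + n⟩), ⟨eP _ ≪≫ (CategoryTheory.shiftFunctorAdd (DerivedCategory A) p.2.down n).app _ ≪≫
      (CategoryTheory.shiftFunctor (DerivedCategory A) n).mapIso (eP p).symm⟩⟩
  have e₀ : ∀ k, DerivedCategory.Q.obj (P (k, ⟨0⟩)) ≅ S k := fun k => eP _ ≪≫ (shiftFunctorZero (DerivedCategory A) ℤ).app _
  have hLR : ∀ T, Loc P T → R T := fun T h k n => @Equiv.subsingleton _ _ (e₀ k).symm.homFromEquiv (h (k, ⟨0⟩) n)
  have hRL : ∀ T, R T → Loc P T := fun T h p n => by
    obtain ⟨k, ⟨m⟩⟩ := p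
    haveI := h k (n + -m)
    have h1 : Subsingleton (S k ⟶ (T⟦n⟧)⟦-m⟧) :=
      @Equiv.subsingleton _ _ ((CategoryTheory.shiftFunctorAdd (DerivedCategory A) n (-m)).app T).symm.homToEquiv (h k (n + -m))
    exact @Equiv.subsingleton _ _ ((eP (k, ⟨m⟩)).homFromEquiv.trans
      ((shiftEquiv (DerivedCategory A) m).toAdjunction.homEquiv _ _)) h1
  refine Functor.isRightAdjoint_of_leftAdjointObjIsDefined_eq_top ?_
  ext K
  simp only [Pi.top_apply, Prop.top_eq_true, iff_true]
  obtain ⟨L, η, hL, hb⟩ := exists_reflection P hP K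
  refine (Functor.leftAdjointObjIsDefined_iff _ K).2 ⟨⟨⟨L, hLR L hL⟩, ⟨?_⟩⟩⟩
  exact
    { homEquiv := fun {Y} => InducedCategory.homEquiv.trans (Equiv.ofBijective _ (hb Y.obj (hRL _ Y.property)))
      homEquiv_comp := fun {Y Y'} g f => (Category.assoc _ _ _).symm }

end Groth.L04.Bousfield
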